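import Groth.Agent.GrpSchLib.TensorDomain
import Mathlib

/-!
Irreducibility and connectedness of spectra of tensor products over a separably closed field, and
the change of field in geometric irreducibility.
-/

namespace Groth.Agent.GeomSep

universe u v w

open TensorProduct PrimeSpectrum

theorem irreducibleSpace_of_surjective {X Y : Type*} [TopologicalSpace X] [TopologicalSpace Y]
    [h : IrreducibleSpace X] {f : X → Y} (hc : Continuous f) (hs : Function.Surjective f) :
    IrreducibleSpace Y := by
  have := ((irreducibleSpace_def X).1 h).image f hc.continuousOn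
  rw [Set.top_eq_univ, Set.image_univ, hs.range_eq] at this
  exact (irreducibleSpace_def Y).2 this

theorem connectedSpace_of_surjective {X Y : Type*} [TopologicalSpace X] [TopologicalSpace Y]
    [h : ConnectedSpace X] {f : X → Y} (hc : Continuous f) (hs : Function.Surjective f) :
    ConnectedSpace Y := by
  have := (connectedSpace_iff_univ.1 h).image f hc.continuousOn
  rw [Set.image_univ, hs.range_eq] at this
  exact connectedSpace_iff_univ.2 this

theorem comap_equiv_surjective {A B : Type*} [CommRing A] [CommRing B] (e : A ≃+* B) :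
    Function.Surjective (comap (e : A →+* B)) := fun x =>
  ⟨comap (e.symm : B →+* A) x, by rw [← comap_comp_apply]; simp⟩

theorem irreducibleSpace_of_equiv {A B : Type*} [CommRing A] [CommRing B] (e : A ≃+* B)
    [IrreducibleSpace (PrimeSpectrum B)] : IrreducibleSpace (PrimeSpectrum A) :=
  irreducibleSpace_of_surjective (continuous_comap _) (comap_equiv_surjective e)

theorem connectedSpace_of_equiv {A B : Type*} [CommRing A] [CommRing B] (e : A ≃+* B)
    [ConnectedSpace (PrimeSpectrum B)] : ConnectedSpace (PrimeSpectrum A) :=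
  connectedSpace_of_surjective (continuous_comap _) (comap_equiv_surjective e)

section fibres

variable {R S : Type*} [CommRing R] [CommRing S] [Algebra R S]

theorem isIrreducible_preimage_singleton (p : PrimeSpectrum R)
    [h : IrreducibleSpace (PrimeSpectrum (p.asIdeal.Fiber S))] :
    IsIrreducible (comap (algebraMap R S) ⁻¹' {p}) := by
  have := irreducibleSpace_of_surjective (preimageHomeomorphFiber R S p).symm.continuous
    (preimageHomeomorphFiber R S p).symm.surjective
  have h' := ((irreducibleSpace_def _).1 this).image _ continuous_subtype_val.continuousOn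
  rwa [Set.top_eq_univ, Set.image_univ, Subtype.range_val] at h'

theorem isConnected_preimage_singleton (p : PrimeSpectrum R)
    [h : ConnectedSpace (PrimeSpectrum (p.asIdeal.Fiber S))] :
    IsConnected (comap (algebraMap R S) ⁻¹' {p}) := by
  have := connectedSpace_of_surjective (preimageHomeomorphFiber R S p).symm.continuous
    (preimageHomeomorphFiber R S p).symm.surjective
  have h' := (connectedSpace_iff_univ.1 this).image _ continuous_subtype_val.continuousOn
  rwa [Set.image_univ, Subtype.range_val] at h'

/-- Open map, irreducible base, irreducible fibres over a dense set. -/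
theorem irreducibleSpace_of_isOpenMap (hopen : IsOpenMap (comap (algebraMap R S)))
    [IrreducibleSpace (PrimeSpectrum R)] (D : Set (PrimeSpectrum R)) (hD : Dense D)
    (hfib : ∀ p ∈ D, IrreducibleSpace (PrimeSpectrum (p.asIdeal.Fiber S))) :
    IrreducibleSpace (PrimeSpectrum S) := by
  obtain ⟨p, hp⟩ := hD.nonempty
  have := hfib p hp
  have : Nonempty (PrimeSpectrum S) := ⟨(isIrreducible_preimage_singleton p).1.some⟩
  refine (irreducibleSpace_def _).2 ⟨Set.univ_nonempty, fun U V hU hV hU' hV' => ?_⟩
  simp only [Set.top_eq_univ, Set.univ_inter] at hU' hV' ⊢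
  obtain ⟨x, hxU, hxV⟩ := nonempty_preirreducible_inter (hopen U hU) (hopen V hV)
    (hU'.image _) (hV'.image _)
  obtain ⟨q, ⟨hqU, hqV⟩, hqD⟩ := hD.inter_open_nonempty _ ((hopen U hU).inter (hopen V hV)) ⟨x, hxU, hxV⟩
  have := hfib q hqD
  obtain ⟨u, huU, hu⟩ := hqU
  obtain ⟨v, hvV, hv⟩ := hqV
  exact (((isIrreducible_preimage_singleton q).2 U V hU hV ⟨u, hu, huU⟩ ⟨v, hv, hvV⟩)).mono
    Set.inter_subset_right

/-- Open map, connected base, connected fibres. -/
theorem connectedSpace_of_isOpenMap (hopen : IsOpenMap (comap (algebraMap R S)))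
    [ConnectedSpace (PrimeSpectrum R)]
    (hfib : ∀ p : PrimeSpectrum R, ConnectedSpace (PrimeSpectrum (p.asIdeal.Fiber S))) :
    ConnectedSpace (PrimeSpectrum S) := by
  have hc : ∀ p, IsConnected (comap (algebraMap R S) ⁻¹' {p}) := fun p => by
    have := hfib p
    exact isConnected_preimage_singleton p
  have hq : Topology.IsQuotientMap (comap (algebraMap R S)) :=
    hopen.isQuotientMap (continuous_comap _) fun p => ⟨(hc p).1.some, (hc p).1.some_mem⟩
  exact connectedSpace_iff_univ.2
    (hq.isCoinducing.isConnected_preimage_of_isClosed hc isClosed_univ isConnected_univ)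

end fibres

section field

variable {k : Type u} [Field k]

theorem irreducibleSpace_tensor_of_fibre (A : Type v) (B : Type w) [CommRing A] [CommRing B]
    [Algebra k A] [Algebra k B] [IrreducibleSpace (PrimeSpectrum A)]
    (h : ∀ p : PrimeSpectrum A, IrreducibleSpace (PrimeSpectrum (p.asIdeal.ResidueField ⊗[k] B))) :
    IrreducibleSpace (PrimeSpectrum (A ⊗[k] B)) :=
  irreducibleSpace_of_isOpenMap isOpenMap_comap_algebraMap_tensorProduct_of_field Set.univ dense_univ
    fun p _ =>
      have := h p
      irreducibleSpace_of_equiv (Algebra.TensorProduct.cancelBaseChange k A p.asIdeal.ResidueField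
        p.asIdeal.ResidueField B).toRingEquiv

theorem connectedSpace_tensor_of_fibre (A : Type v) (B : Type w) [CommRing A] [CommRing B]
    [Algebra k A] [Algebra k B] [ConnectedSpace (PrimeSpectrum A)]
    (h : ∀ p : PrimeSpectrum A, ConnectedSpace (PrimeSpectrum (p.asIdeal.ResidueField ⊗[k] B))) :
    ConnectedSpace (PrimeSpectrum (A ⊗[k] B)) :=
  connectedSpace_of_isOpenMap isOpenMap_comap_algebraMap_tensorProduct_of_field
    fun p =>
      have := h p
      connectedSpace_of_equiv (Algebra.TensorProduct.cancelBaseChange k A p.asIdeal.ResidueField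
        p.asIdeal.ResidueField B).toRingEquiv

/-- Two extensions of a field embed into a common one. -/
theorem exists_compositum (F : Type v) (K : Type w) [Field F] [Field K] [Algebra k F] [Algebra k K] :
    ∃ (G : Type (max v w)) (_ : Field G) (_ : Algebra k G), Nonempty (F →ₐ[k] G) ∧ Nonempty (K →ₐ[k] G) := by
  obtain ⟨m, hm⟩ := Ideal.exists_maximal (F ⊗[k] K)
  let := Ideal.Quotient.field m
  exact ⟨(F ⊗[k] K) ⧸ m, inferInstance, inferInstance,
    ⟨(Ideal.Quotient.mkₐ k m).comp Algebra.TensorProduct.includeLeft⟩,
    ⟨(Ideal.Quotient.mkₐ k m).comp Algebra.TensorProduct.includeRight⟩⟩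

/-- A prime is the kernel of a map to an algebraically closed field. -/
theorem exists_ker_eq {T : Type v} [CommRing T] [Algebra k T] (P : PrimeSpectrum T) :
    ∃ (F : Type v) (_ : Field F) (_ : Algebra k F) (_ : IsAlgClosed F) (q : T →ₐ[k] F),
      ∀ x, q x = 0 ↔ x ∈ P.asIdeal :=
  ⟨AlgebraicClosure P.asIdeal.ResidueField, inferInstance, inferInstance, inferInstance,
    (IsScalarTower.toAlgHom k P.asIdeal.ResidueField _).comp
      (IsScalarTower.toAlgHom k T P.asIdeal.ResidueField),
    fun x => (map_eq_zero (IsScalarTower.toAlgHom k P.asIdeal.ResidueField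
      (AlgebraicClosure P.asIdeal.ResidueField))).trans Ideal.algebraMap_residueField_eq_zero⟩

/-- Extending the field in `A ⊗ R` is surjective on spectra. -/
theorem comap_map_surjective {A A' R : Type u} [Field A] [Algebra k A] [Field A'] [Algebra k A']
    [CommRing R] [Algebra k R] (f : A →ₐ[k] A') :
    Function.Surjective (comap (Algebra.TensorProduct.map f (AlgHom.id k R)).toRingHom) := by
  intro P
  obtain ⟨F, _, _, _, q, hq⟩ := exists_ker_eq (k := k) P
  let a : A →ₐ[k] F := q.comp Algebra.TensorProduct.includeLeft
  let b : R →ₐ[k] F := q.comp Algebra.TensorProduct.includeRight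
  let := a.toRingHom.toAlgebra
  have : IsScalarTower k A F := IsScalarTower.of_algebraMap_eq' a.comp_algebraMap.symm
  let := f.toRingHom.toAlgebra
  have : IsScalarTower k A A' := IsScalarTower.of_algebraMap_eq' f.comp_algebraMap.symm
  have : Nontrivial (F ⊗[A] A') := (Algebra.TensorProduct.includeLeft_injective
    (R := A) (S := A) (A := F) (B := A') (algebraMap A A').injective).nontrivial
  obtain ⟨m, hm⟩ := Ideal.exists_maximal (F ⊗[A] A')
  let := Ideal.Quotient.field m
  let g : F →ₐ[k] (F ⊗[A] A') ⧸ m :=
    (Ideal.Quotient.mkₐ k m).comp Algebra.TensorProduct.includeLeft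
  let g' : A' →ₐ[k] (F ⊗[A] A') ⧸ m :=
    (Ideal.Quotient.mkₐ k m).comp
      ((Algebra.TensorProduct.includeRight (R := A) (A := F) (B := A')).restrictScalars k)
  let ψ : A' ⊗[k] R →ₐ[k] (F ⊗[A] A') ⧸ m :=
    Algebra.TensorProduct.lift g' (g.comp b) fun _ _ => Commute.all _ _
  have hcomp : ψ.comp (Algebra.TensorProduct.map f (AlgHom.id k R)) =
      g.comp q := by
    refine Algebra.TensorProduct.ext ?_ ?_
    · ext x
      simp only [AlgHom.comp_apply, Algebra.TensorProduct.includeLeft_apply,
        Algebra.TensorProduct.map_tmul, ψ, Algebra.TensorProduct.lift_tmul, AlgHom.id_apply, map_one,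
        mul_one]
      change Ideal.Quotient.mk m (1 ⊗ₜ[A] algebraMap A A' x) =
        Ideal.Quotient.mk m (algebraMap A F x ⊗ₜ[A] 1)
      rw [Algebra.algebraMap_eq_smul_one, Algebra.algebraMap_eq_smul_one, TensorProduct.smul_tmul]
    · ext x
      simp [ψ, b]
  refine ⟨⟨RingHom.ker ψ.toRingHom, RingHom.ker_isPrime _⟩, PrimeSpectrum.ext ?_⟩
  ext x
  show ψ (Algebra.TensorProduct.map f (AlgHom.id k R) x) = 0 ↔ _
  rw [← AlgHom.comp_apply, hcomp, AlgHom.comp_apply, map_eq_zero_iff g g.toRingHom.injective]
  exact hq x

/-- Over a separably closed field the tensor product of two fields has irreducible spectrum. -/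
theorem irreducibleSpace_tensor_fields [IsSepClosed k] (L : Type v) (K : Type w) [Field L] [Field K]
    [Algebra k L] [Algebra k K] : IrreducibleSpace (PrimeSpectrum (L ⊗[k] K)) := by
  let Ω := AlgebraicClosure k
  let L' := AlgebraicClosure L
  let K' := AlgebraicClosure K
  let := (IsAlgClosed.lift : Ω →ₐ[k] L').toRingHom.toAlgebra
  have : IsScalarTower k Ω L' :=
    IsScalarTower.of_algebraMap_eq' (IsAlgClosed.lift : Ω →ₐ[k] L').comp_algebraMap.symm
  let := (IsAlgClosed.lift : Ω →ₐ[k] K').toRingHom.toAlgebra
  have : IsScalarTower k Ω K' :=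
    IsScalarTower.of_algebraMap_eq' (IsAlgClosed.lift : Ω →ₐ[k] K').comp_algebraMap.symm
  have : IsDomain (L' ⊗[Ω] K') := GrpSchLib.isDomain_tensor_of_isAlgClosed
  let φ : L ⊗[k] K →ₐ[k] L' ⊗[Ω] K' := Algebra.TensorProduct.lift
    (Algebra.TensorProduct.includeLeft.comp (IsScalarTower.toAlgHom k L L'))
    (((Algebra.TensorProduct.includeRight (R := Ω) (A := L') (B := K')).restrictScalars k).comp
      (IsScalarTower.toAlgHom k K K')) fun _ _ => Commute.all _ _
  refine irreducibleSpace_of_surjective (continuous_comap φ.toRingHom) fun P => ?_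
  obtain ⟨F, _, _, _, q, hq⟩ := exists_ker_eq (k := k) P
  let a := q.comp Algebra.TensorProduct.includeLeft
  let b := q.comp Algebra.TensorProduct.includeRight
  let := a.toRingHom.toAlgebra
  have : IsScalarTower k L F := IsScalarTower.of_algebraMap_eq' a.comp_algebraMap.symm
  let := b.toRingHom.toAlgebra
  have : IsScalarTower k K F := IsScalarTower.of_algebraMap_eq' b.comp_algebraMap.symm
  let a' : L' →ₐ[L] F := IsAlgClosed.lift
  let b' : K' →ₐ[K] F := IsAlgClosed.lift
  let c := (a'.restrictScalars k).comp (IsScalarTower.toAlgHom k Ω L')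
  have hc : (b'.restrictScalars k).comp (IsScalarTower.toAlgHom k Ω K') = c := Subsingleton.elim _ _
  let := c.toRingHom.toAlgebra
  let a'' : L' →ₐ[Ω] F := { a'.toRingHom with commutes' := fun x => rfl }
  let b'' : K' →ₐ[Ω] F := { b'.toRingHom with commutes' := fun x => DFunLike.congr_fun hc x }
  let ψ : L' ⊗[Ω] K' →ₐ[Ω] F := Algebra.TensorProduct.lift a'' b'' fun _ _ => Commute.all _ _
  have hcomp : ∀ x, ψ (φ x) = q x := by
    intro x
    induction x with
    | zero => simp
    | tmul l m =>
      simp only [φ, ψ, Algebra.TensorProduct.lift_tmul, AlgHom.comp_apply, map_mul,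
        Algebra.TensorProduct.includeLeft_apply, AlgHom.restrictScalars_apply,
        Algebra.TensorProduct.includeRight_apply, map_one, one_mul, mul_one]
      have e1 : a'' (IsScalarTower.toAlgHom k L L' l) = a l := a'.commutes l
      have e2 : b'' (IsScalarTower.toAlgHom k K K' m) = b m := b'.commutes m
      rw [e1, e2]
      simp only [a, b, AlgHom.comp_apply, Algebra.TensorProduct.includeLeft_apply,
        Algebra.TensorProduct.includeRight_apply, ← map_mul, Algebra.TensorProduct.tmul_mul_tmul,
        mul_one, one_mul]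
    | add x y hx hy => simp only [map_add, hx, hy]
  refine ⟨⟨RingHom.ker ψ.toRingHom, RingHom.ker_isPrime _⟩, PrimeSpectrum.ext ?_⟩
  ext x
  show ψ (φ x) = 0 ↔ _
  rw [hcomp]
  exact hq x

/-- Over a separably closed field a tensor product of algebras with irreducible spectra has
irreducible spectrum. -/
theorem irreducibleSpace_tensor [IsSepClosed k] (A : Type v) (B : Type w) [CommRing A] [CommRing B]
    [Algebra k A] [Algebra k B] [IrreducibleSpace (PrimeSpectrum A)]
    [IrreducibleSpace (PrimeSpectrum B)] : IrreducibleSpace (PrimeSpectrum (A ⊗[k] B)) :=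
  irreducibleSpace_tensor_of_fibre A B fun p =>
    have := irreducibleSpace_tensor_of_fibre (k := k) B p.asIdeal.ResidueField
      fun _ => irreducibleSpace_tensor_fields _ _
    irreducibleSpace_of_equiv (Algebra.TensorProduct.comm k p.asIdeal.ResidueField B).toRingEquiv

/-- Over a separably closed field a tensor product of algebras with connected spectra has
connected spectrum. -/
theorem connectedSpace_tensor [IsSepClosed k] (A : Type v) (B : Type w) [CommRing A] [CommRing B]
    [Algebra k A] [Algebra k B] [ConnectedSpace (PrimeSpectrum A)]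
    [ConnectedSpace (PrimeSpectrum B)] : ConnectedSpace (PrimeSpectrum (A ⊗[k] B)) :=
  connectedSpace_tensor_of_fibre A B fun p =>
    have := connectedSpace_tensor_of_fibre (k := k) B p.asIdeal.ResidueField
      fun q => have := irreducibleSpace_tensor_fields (k := k) q.asIdeal.ResidueField p.asIdeal.ResidueField
        inferInstance
    connectedSpace_of_equiv (Algebra.TensorProduct.comm k p.asIdeal.ResidueField B).toRingEquiv

/-- Irreducibility over one separably closed extension gives it over every extension. -/
theorem geometricallyIrreducible_of_isSepClosed {R : Type u} [CommRing R] [Algebra k R] (Ω : Type u)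
    [Field Ω] [Algebra k Ω] [IsSepClosed Ω] [IrreducibleSpace (PrimeSpectrum (Ω ⊗[k] R))]
    (k' : Type u) [Field k'] [Algebra k k'] : IrreducibleSpace (PrimeSpectrum (k' ⊗[k] R)) := by
  obtain ⟨G, _, _, ⟨f⟩, ⟨g⟩⟩ := exists_compositum (k := k) k' Ω
  let := g.toRingHom.toAlgebra
  have : IsScalarTower k Ω G := IsScalarTower.of_algebraMap_eq' g.comp_algebraMap.symm
  have := irreducibleSpace_tensor (k := Ω) G (Ω ⊗[k] R)
  have := irreducibleSpace_of_equiv
    (Algebra.TensorProduct.cancelBaseChange k Ω G G R).symm.toRingEquiv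
  exact irreducibleSpace_of_surjective (continuous_comap _) (comap_map_surjective (R := R) f)

/-- Connectedness over one separably closed extension gives it over every extension. -/
theorem geometricallyConnected_of_isSepClosed {R : Type u} [CommRing R] [Algebra k R] (Ω : Type u)
    [Field Ω] [Algebra k Ω] [IsSepClosed Ω] [ConnectedSpace (PrimeSpectrum (Ω ⊗[k] R))]
    (k' : Type u) [Field k'] [Algebra k k'] : ConnectedSpace (PrimeSpectrum (k' ⊗[k] R)) := by
  obtain ⟨G, _, _, ⟨f⟩, ⟨g⟩⟩ := exists_compositum (k := k) k' Ω
  let := g.toRingHom.toAlgebra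
  have : IsScalarTower k Ω G := IsScalarTower.of_algebraMap_eq' g.comp_algebraMap.symm
  have := connectedSpace_tensor (k := Ω) G (Ω ⊗[k] R)
  have := connectedSpace_of_equiv
    (Algebra.TensorProduct.cancelBaseChange k Ω G G R).symm.toRingEquiv
  exact connectedSpace_of_surjective (continuous_comap _) (comap_map_surjective (R := R) f)

/-- Finitely many elements of `L ⊗ R`, `L/k` algebraic, live over a finite subextension. -/
theorem exists_finite_intermediateField {L R : Type*} [Field L] [Algebra k L]
    [Algebra.IsAlgebraic k L] [CommRing R] [Algebra k R] (x y : L ⊗[k] R) :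
    ∃ (E : IntermediateField k L), FiniteDimensional k E ∧
      ∃ x' y' : E ⊗[k] R, Algebra.TensorProduct.map E.val (AlgHom.id k R) x' = x ∧
        Algebra.TensorProduct.map E.val (AlgHom.id k R) y' = y := by
  classical
  obtain ⟨n, a, r, rfl⟩ := TensorProduct.exists_sum_tmul_eq x
  obtain ⟨m, b, s, rfl⟩ := TensorProduct.exists_sum_tmul_eq y
  let T : Set L := Set.range a ∪ Set.range b
  have : Finite T := ((Set.finite_range a).union (Set.finite_range b)).to_subtype
  have := IntermediateField.finiteDimensional_adjoin (K := k) (S := T)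
    fun x _ => Algebra.IsIntegral.isIntegral x
  refine ⟨IntermediateField.adjoin k T, this,
    ∑ i, (⟨a i, IntermediateField.subset_adjoin _ _ (Or.inl ⟨i, rfl⟩)⟩) ⊗ₜ r i,
    ∑ i, (⟨b i, IntermediateField.subset_adjoin _ _ (Or.inr ⟨i, rfl⟩)⟩) ⊗ₜ s i, ?_, ?_⟩ <;>
    simp [map_sum]

theorem map_intermediateField_injective {L R : Type*} [Field L] [Algebra k L] [CommRing R]
    [Algebra k R] (E : IntermediateField k L) :
    Function.Injective (Algebra.TensorProduct.map E.val (AlgHom.id k R)) :=
  Module.Flat.rTensor_preserves_injective_linearMap (M := R) E.val.toLinearMap E.val.toRingHom.injective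

end field

end Groth.Agent.GeomSep
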