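import Mathlib

/-!
MacLane: linear independence of `p`-th powers in a separably generated extension.
-/

namespace Groth.Agent.GeomSep

universe u

variable {k K : Type u} [Field k] [Field K] [Algebra k K] (p : ℕ) [Fact p.Prime] [CharP k p]

/-- Frobenius of vectors of polynomials preserves linear independence over `k`. -/
theorem linearIndependent_pow_mvPolynomial {σ ι α : Type*} [Fintype ι]
    (g : ι → α → MvPolynomial σ k) (hg : LinearIndependent k g) :
    LinearIndependent k (fun i a => g i a ^ p) := by
  classical
  have hfr : ∀ f : MvPolynomial σ k, f ^ p = MvPolynomial.map (frobenius k p) (MvPolynomial.expand p f) := by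
    intro f
    have : (frobenius (MvPolynomial σ k) p) =
        (MvPolynomial.map (frobenius k p)).comp (MvPolynomial.expand p).toRingHom := by
      apply MvPolynomial.ringHom_ext <;> intro a
      · simp [frobenius_def]
      · simp [frobenius_def]
    exact RingHom.congr_fun this f
  let Φ : (ι → k) →ₗ[k] (α × (σ →₀ ℕ) → k) := LinearMap.pi fun am =>
    Fintype.linearCombination k fun i => (g i am.1).coeff am.2
  have hΦ : LinearMap.ker Φ = ⊥ := by
    rw [LinearMap.ker_eq_bot']
    intro c hc
    refine funext (Fintype.linearIndependent_iff.1 hg c ?_)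
    ext a m
    have := congrFun hc (a, m)
    simp only [Φ, LinearMap.pi_apply, Fintype.linearCombination_apply, Pi.zero_apply] at this
    simp only [Finset.sum_apply, Pi.smul_apply, MvPolynomial.coeff_sum, MvPolynomial.coeff_smul,
      Pi.zero_apply, MvPolynomial.coeff_zero]
    exact this
  rw [Fintype.linearIndependent_iff]
  intro c hc
  have hcoeff : ∀ am : α × (σ →₀ ℕ), ∑ i, c i * ((g i am.1).coeff am.2) ^ p = 0 := by
    intro am
    have := congrArg (fun v : α → MvPolynomial σ k => (v am.1).coeff (p • am.2)) hc
    simp only [Finset.sum_apply, Pi.smul_apply, MvPolynomial.coeff_sum, MvPolynomial.coeff_smul,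
      Pi.zero_apply, MvPolynomial.coeff_zero, hfr, MvPolynomial.coeff_map,
      MvPolynomial.coeff_expand_smul p (Fact.out : p.Prime).ne_zero, frobenius_def, smul_eq_mul] at this
    exact this
  -- the vectors of coefficients live in a finite-dimensional range
  let A : ι → (α × (σ →₀ ℕ) → k) := fun i am => (g i am.1).coeff am.2
  have hA : LinearIndependent k A := by
    rw [Fintype.linearIndependent_iff]
    intro d hd
    refine fun i => congrFun (LinearMap.ker_eq_bot'.1 hΦ d ?_) i
    rw [← hd]
    ext am
    simp [Φ, A, Fintype.linearCombination_apply]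
  -- choose finitely many coordinates detecting independence
  let E : (α × (σ →₀ ℕ)) → (ι → k) := fun am i => A i am
  have hE : Submodule.span k (Set.range E) = ⊤ := by
    by_contra hne
    obtain ⟨f, hf0, hf⟩ := Submodule.exists_le_ker_of_lt_top _ (lt_top_iff_ne_top.2 hne)
    refine hf0 ((Pi.basisFun k ι).ext fun i => ?_)
    have hzero : ∑ j, f (Pi.basisFun k ι j) • A j = 0 := by
      ext am
      have h1 : f (E am) = 0 := hf (Submodule.subset_span ⟨am, rfl⟩)
      rw [← (Pi.basisFun k ι).sum_repr (E am), map_sum] at h1
      simpa [E, mul_comm] using h1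
    simpa using Fintype.linearIndependent_iff.1 hA _ hzero i
  intro i
  have hi : Pi.basisFun k ι i ∈ Submodule.span k (Set.range E) := hE ▸ Submodule.mem_top
  obtain ⟨w, hw⟩ := (Finsupp.mem_span_range_iff_exists_finsupp).1 hi
  have key : ∀ j, (∑ am ∈ w.support, w am ^ p * ((g j am.1).coeff am.2) ^ p) = if j = i then 1 else 0 := by
    intro j
    have := congrFun hw j
    simp only [Finsupp.sum, Finset.sum_apply, Pi.smul_apply, smul_eq_mul, Pi.basisFun_apply,
      Pi.single_apply] at this
    calc _ = (∑ am ∈ w.support, w am * (g j am.1).coeff am.2) ^ p := by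
            simp_rw [← mul_pow]; exact (map_sum (frobenius k p) _ _).symm
      _ = _ := by
            rw [show (∑ am ∈ w.support, w am * (g j am.1).coeff am.2) = if j = i then 1 else 0 from this]
            split_ifs <;> simp [(Fact.out : p.Prime).ne_zero]
  have h0 : ∑ am ∈ w.support, w am ^ p * ∑ j, c j * ((g j am.1).coeff am.2) ^ p = 0 :=
    Finset.sum_eq_zero fun am _ => by rw [hcoeff, mul_zero]
  simp_rw [Finset.mul_sum] at h0
  rw [Finset.sum_comm] at h0
  have h1 : ∀ j, ∑ am ∈ w.support, w am ^ p * (c j * ((g j am.1).coeff am.2) ^ p) = c j * (if j = i then 1 else 0) := by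
    intro j
    rw [← key j, Finset.mul_sum]
    exact Finset.sum_congr rfl fun am _ => by ring
  simp_rw [h1] at h0
  simpa using h0

variable [CharP K p]

/-- In a separably generated extension `p`-th powers of independent elements are independent. -/
theorem linearIndepOn_pow_of_separablyGenerated {τ : Type u} (x : τ → K)
    (hx : AlgebraicIndependent k x)
    [Algebra.IsSeparable (IntermediateField.adjoin k (Set.range x)) K]
    (s : Finset K) (hs : LinearIndepOn k id (s : Set K)) :
    LinearIndepOn k (· ^ p) (s : Set K) := by
  classical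
  let L := IntermediateField.adjoin k (Set.range x)
  let W := Submodule.span L (s : Set K)
  have : Module.Finite L W := Module.Finite.iff_fg.2 (Submodule.fg_span s.finite_toSet)
  let b := Module.finBasis L W
  let e : Fin (Module.finrank L W) → K := fun a => (b a : K)
  have he : LinearIndependent L e := b.linearIndependent.map' W.subtype (Submodule.ker_subtype W)
  let u : ↥(s : Set K) → Fin (Module.finrank L W) → L := fun i a => b.repr ⟨i, Submodule.subset_span i.2⟩ a
  have hu : ∀ i : (s : Set K), (i : K) = ∑ a, u i a • e a := fun i => by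
    have := congrArg Subtype.val (b.sum_repr (⟨i, Submodule.subset_span i.2⟩ : W))
    rw [Submodule.coe_sum] at this
    exact this.symm
  have hrs : ∀ i a, ∃ r t : MvPolynomial τ k, t ≠ 0 ∧ (u i a : K) = MvPolynomial.aeval x r / MvPolynomial.aeval x t := by
    intro i a
    obtain ⟨r, t, h⟩ := (IntermediateField.mem_adjoin_range_iff _ x _).1 (u i a).2
    by_cases ht : t = 0
    · exact ⟨0, 1, one_ne_zero, by simp [h, ht]⟩
    · exact ⟨r, t, ht, h⟩
  choose r t ht hu' using hrs
  let h₀ := ∏ q : ↥(s : Set K) × Fin (Module.finrank L W), t q.1 q.2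
  let g : ↥(s : Set K) → Fin (Module.finrank L W) → MvPolynomial τ k := fun i a =>
    r i a * ∏ q ∈ (Finset.univ.erase (i, a)), t q.1 q.2
  have hh₀ : MvPolynomial.aeval x h₀ ≠ 0 := fun h => by
    have := hx (show MvPolynomial.aeval x h₀ = MvPolynomial.aeval x 0 by rw [h, map_zero])
    exact Finset.prod_ne_zero_iff.2 (fun q _ => ht q.1 q.2) this
  have hgu : ∀ i a, MvPolynomial.aeval x (g i a) = MvPolynomial.aeval x h₀ * (u i a : K) := by
    intro i a
    have htne : MvPolynomial.aeval x (t i a) ≠ 0 := fun h =>
      ht i a (hx (show MvPolynomial.aeval x (t i a) = MvPolynomial.aeval x 0 by rw [h, map_zero]))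
    rw [hu' i a, show h₀ = t i a * ∏ q ∈ (Finset.univ.erase (i, a)), t q.1 q.2 from
      (Finset.mul_prod_erase _ (fun q : ↥(s : Set K) × Fin (Module.finrank L W) => t q.1 q.2) (Finset.mem_univ (i, a))).symm]
    simp only [g, map_mul]
    field_simp
  have hg : LinearIndependent k g := by
    rw [Fintype.linearIndependent_iff]
    intro c hc
    refine Fintype.linearIndependent_iff.1 hs c ?_
    have h1 : ∀ a, ∑ i, c i • (u i a : K) = 0 := by
      intro a
      have := congrArg (fun v : Fin (Module.finrank L W) → MvPolynomial τ k => MvPolynomial.aeval x (v a)) hc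
      simp only [Finset.sum_apply, Pi.smul_apply, map_sum, map_smul, hgu, Pi.zero_apply, map_zero] at this
      simp_rw [← mul_smul_comm, ← Finset.mul_sum] at this
      exact (mul_eq_zero.1 this).resolve_left hh₀
    calc ∑ i, c i • id (i : K) = ∑ a, (∑ i, c i • (u i a : K)) * e a := by
          simp only [id, Finset.sum_mul]
          rw [Finset.sum_comm]
          refine Finset.sum_congr rfl fun i _ => ?_
          conv_lhs => rw [hu i, Finset.smul_sum]
          simp [IntermediateField.smul_def, smul_mul_assoc]
      _ = 0 := Finset.sum_eq_zero fun a _ => by rw [h1 a, zero_mul]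
  have hgp := linearIndependent_pow_mvPolynomial p g hg
  have hep : LinearIndependent L fun a => e a ^ p := by
    have : ExpChar L p := ExpChar.prime (Fact.out : p.Prime)
    simpa using LinearIndependent.map_pow_expChar_pow_of_isSeparable p 1 he
  show LinearIndependent k fun i : (s : Set K) => (i : K) ^ p
  rw [Fintype.linearIndependent_iff]
  intro c hc
  refine Fintype.linearIndependent_iff.1 hgp c ?_
  have h2 : ∑ a, (∑ i, c i • (u i a) ^ p) • (e a ^ p) = 0 := by
    rw [← hc]
    have hpow : ∀ i : (s : Set K), (i : K) ^ p = ∑ a, (u i a) ^ p • (e a ^ p) := fun i => by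
      have := congrArg (frobenius K p) (hu i)
      rw [map_sum] at this
      simpa [frobenius_def, IntermediateField.smul_def, mul_pow] using this
    simp_rw [hpow, Finset.smul_sum, Finset.sum_smul, smul_assoc]
    rw [Finset.sum_comm]
  have h3 := Fintype.linearIndependent_iff.1 hep _ h2
  ext1 a
  apply hx
  simp only [Finset.sum_apply, Pi.smul_apply, map_sum, map_smul, map_pow, hgu, Pi.zero_apply, map_zero,
    mul_pow]
  simp_rw [← mul_smul_comm, ← Finset.mul_sum]
  have h4 : ((∑ i, c i • (u i a) ^ p : L) : K) = 0 := by rw [h3 a]; rfl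
  rw [IntermediateField.coe_sum] at h4
  rw [mul_eq_zero]
  exact Or.inr (by simpa using h4)

end Groth.Agent.GeomSep
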