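import Groth.Agent.GrpSchLib.Reduced
import Mathlib

/-!
`k' ⊗ k'` for `k'/k` separable algebraic: absolutely flat, diagonal is a localisation.
-/

namespace Groth.Agent.GeomSep

universe u v

open TensorProduct

/-- In a reduced algebra over a field an integral element `x` satisfies `x ∈ x²T`. -/
theorem exists_eq_sq_mul {k : Type u} [Field k] {T : Type v} [CommRing T] [Algebra k T] [IsReduced T]
    {x : T} (hx : IsIntegral k x) : ∃ y, x = x * x * y := by
  obtain ⟨p, hpm, hp⟩ := hx
  rw [← Polynomial.aeval_def] at hp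
  have hp0 : p ≠ 0 := hpm.ne_zero
  obtain ⟨q, hq, hqX⟩ := p.exists_eq_pow_rootMultiplicity_mul_and_not_dvd hp0 0
  simp only [map_zero, sub_zero] at hq hqX
  have hc : q.coeff 0 ≠ 0 := fun h => hqX (Polynomial.X_dvd_iff.2 h)
  have h1 : x * Polynomial.aeval x q = 0 := by
    refine IsReduced.eq_zero _ ⟨p.rootMultiplicity 0 + 1, ?_⟩
    rw [hq, map_mul, map_pow, Polynomial.aeval_X] at hp
    rw [mul_pow, pow_succ x, pow_succ (Polynomial.aeval x q)]
    calc x ^ p.rootMultiplicity 0 * x * ((Polynomial.aeval x q) ^ p.rootMultiplicity 0 * Polynomial.aeval x q)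
        = x * (Polynomial.aeval x q) ^ p.rootMultiplicity 0 *
            (x ^ p.rootMultiplicity 0 * Polynomial.aeval x q) := by ring
      _ = 0 := by rw [hp, mul_zero]
  rw [← q.X_mul_divX_add, map_add, map_mul, Polynomial.aeval_X, Polynomial.aeval_C] at h1
  refine ⟨-(algebraMap k T (q.coeff 0)⁻¹ * Polynomial.aeval x q.divX), ?_⟩
  have h2 : algebraMap k T (q.coeff 0) * algebraMap k T (q.coeff 0)⁻¹ = 1 := by
    rw [← map_mul, mul_inv_cancel₀ hc, map_one]
  linear_combination (algebraMap k T (q.coeff 0)⁻¹) * h1 - x * h2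

variable {k k' : Type u} [Field k] [Field k'] [Algebra k k'] [Algebra.IsSeparable k k']

theorem exists_eq_sq_mul_tensor (a : k' ⊗[k] k') : ∃ y, a = a * a * y := by
  have := GrpSchLib.isReduced_tensor_of_isSeparable k k' k'
  refine exists_eq_sq_mul (k := k) ?_
  induction a with
  | zero => exact isIntegral_zero
  | tmul a b =>
    have h1 := (Algebra.IsIntegral.isIntegral (R := k) a).map
      (Algebra.TensorProduct.includeLeft : k' →ₐ[k] k' ⊗[k] k')
    have h2 := (Algebra.IsIntegral.isIntegral (R := k) b).map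
      (Algebra.TensorProduct.includeRight : k' →ₐ[k] k' ⊗[k] k')
    simpa using h1.mul h2
  | add x y hx hy => exact hx.add hy

/-- The kernel of the multiplication consists of multiples of idempotents in it. -/
theorem exists_idempotent_of_lmul_eq_zero {a : k' ⊗[k] k'}
    (ha : Algebra.TensorProduct.lmul' (S := k') k a = 0) :
    ∃ e : k' ⊗[k] k', IsIdempotentElem e ∧ Algebra.TensorProduct.lmul' (S := k') k e = 0 ∧ a = e * a := by
  obtain ⟨y, hy⟩ := exists_eq_sq_mul_tensor a
  exact ⟨a * y, by unfold IsIdempotentElem; linear_combination (-y) * hy, by simp [ha],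
    by linear_combination hy⟩

/-- The diagonal `k' ⊗ k' → k'` is a localisation. -/
theorem isLocalization_lmul :
    @IsLocalization _ _ ((nonZeroDivisors k').comap (Algebra.TensorProduct.lmul' (S := k') k)) k' _
      (Algebra.TensorProduct.lmul' (S := k') k).toRingHom.toAlgebra := by
  letI := (Algebra.TensorProduct.lmul' (S := k') k).toRingHom.toAlgebra
  refine ⟨fun ⟨s, hs⟩ => isUnit_iff_ne_zero.2 (mem_nonZeroDivisors_iff_ne_zero.1 hs), fun z =>
    ⟨(z ⊗ₜ 1, 1), ?_⟩, fun {a b} h => ?_⟩
  · show z * algebraMap _ k' (1 : k' ⊗[k] k') = Algebra.TensorProduct.lmul' (S := k') k (z ⊗ₜ 1)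
    simp
  · have hab : Algebra.TensorProduct.lmul' (S := k') k (a - b) = 0 := by
      rw [map_sub, sub_eq_zero]; exact h
    obtain ⟨e, -, he0, hae⟩ := exists_idempotent_of_lmul_eq_zero hab
    refine ⟨⟨1 - e, ?_⟩, ?_⟩
    · simp [Submonoid.mem_comap, map_sub, he0]
    · show (1 - e) * a = (1 - e) * b
      linear_combination hae

end Groth.Agent.GeomSep
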